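import Cfsg.Agent.H419.EP.Big
import Cfsg.Agent.S0816
import Cfsg.Agent.S0817
import Cfsg.Agent.S0818
import Cfsg.Agent.S0292
import Cfsg.Agent.S0293
import Cfsg.Agent.S0294

/-!
# S3499, V-LIE-Omega: the numbers (helper376)

`aut_odd_le`, `aut_plus_le`, `aut_minus_le`: `|Aut PΩ_N(s)| ≤ s ^ (N (N - 1) / 2 + 4)`; `kill`: an almost simple `A` with
`|A| ≤ s ^ (X + 4)`, `X + 8 ≤ s ^ t`, in dimension at least `(s - 1) s ^ t`.
-/

set_option autoImplicit false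

namespace Cfsg.Agent.H376.EP

open Subgroup Cfsg.Agent.H419.EP Cfsg.Agent.H284
open scoped MatrixGroups

theorem mul_le_pow {k c f : ℕ} (hkc : k ≤ c) (hc : 2 ≤ c) (hf : 1 ≤ f) : k * f ≤ c ^ f := by
  obtain ⟨g, rfl⟩ : ∃ g, f = g + 1 := ⟨f - 1, by omega⟩
  have h1 : g + 1 ≤ c ^ g := Nat.lt_pow_self (by omega)
  calc k * (g + 1) ≤ c * c ^ g := Nat.mul_le_mul hkc h1
    _ = c ^ (g + 1) := by rw [pow_succ]; ring

/-- `24 f ≤ s³` for `s = p ^ f` odd, `6 f ≤ s³` for `s = 2 ^ f` -/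
theorem out_le {p f c : ℕ} (hp : p.Prime) (hf : 1 ≤ f) (hc : c ≤ (if p = 2 then 6 else 24)) :
    c * f ≤ (p ^ f) ^ 3 := by
  rw [← pow_mul, mul_comm f 3, pow_mul]
  apply mul_le_pow _ _ hf
  · split_ifs at hc with h
    · subst h
      exact hc.trans (by norm_num)
    · have h3 : 3 ≤ p := by
        have := hp.two_le
        omega
      calc c ≤ 24 := hc
        _ ≤ 3 ^ 3 := by norm_num
        _ ≤ p ^ 3 := Nat.pow_le_pow_left h3 3
  · calc 2 ≤ 2 ^ 3 := by norm_num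
      _ ≤ p ^ 3 := Nat.pow_le_pow_left hp.two_le 3

theorem prod_le (s m : ℕ) : ∏ i ∈ Finset.range m, (s ^ (2 * (i + 1)) - 1) ≤ s ^ (m * (m + 1)) := by
  induction m with
  | zero => simp
  | succ m ih =>
    rw [Finset.prod_range_succ]
    calc _ ≤ s ^ (m * (m + 1)) * s ^ (2 * (m + 1)) := Nat.mul_le_mul ih (Nat.sub_le _ _)
      _ = s ^ ((m + 1) * (m + 1 + 1)) := by rw [← pow_add]; congr 1; ring

section aut

variable {K : Type} [Field K] [Fintype K]

theorem aut_odd_le (hodd : Odd (Fintype.card K)) {m : ℕ} (hm : 3 ≤ m) :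
    Nat.card (MulAut (Cfsg.POmega K (Cfsg.quadFormOdd m K))) ≤ Fintype.card K ^ (2 * m ^ 2 + m + 4) := by
  obtain ⟨p, hchar⟩ := CharP.exists K
  obtain ⟨⟨f, hf0⟩, hp, hK⟩ := FiniteField.card K p
  have := Fact.mk hp
  change Fintype.card K = p ^ f at hK
  have hf : 1 ≤ f := hf0
  have hpodd : Odd p := by
    rw [hK] at hodd
    exact Odd.of_dvd_nat hodd (dvd_pow_self p (by omega))
  have h1 := Cfsg.Agent.S0816.result (F := K) p f hf hK hpodd m hm
  have h2 := Cfsg.Agent.S0292.result (F := K) rfl hodd m hm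
  have h3 := prod_le (Fintype.card K) m
  have h4 : 1 * f ≤ (p ^ f) ^ 3 := out_le hp hf (by split_ifs <;> norm_num)
  rw [one_mul, ← hK] at h4
  have hs : 1 ≤ Fintype.card K := Fintype.card_pos
  calc Nat.card (MulAut (Cfsg.POmega K (Cfsg.quadFormOdd m K)))
      = f * (2 * Nat.card (Cfsg.POmega K (Cfsg.quadFormOdd m K))) := by rw [h1]; ring
    _ ≤ Fintype.card K ^ 3 * (Fintype.card K ^ (m ^ 2) * Fintype.card K ^ (m * (m + 1))) := by
        rw [h2]
        exact Nat.mul_le_mul h4 (Nat.mul_le_mul_left _ h3)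
    _ = Fintype.card K ^ (2 * m ^ 2 + m + 3) := by
        rw [← pow_add, ← pow_add]; congr 1; ring
    _ ≤ Fintype.card K ^ (2 * m ^ 2 + m + 4) := Nat.pow_le_pow_right hs (by omega)

theorem aut_plus_le {m : ℕ} (hm : 4 ≤ m) :
    Nat.card (MulAut (Cfsg.POmega K (Cfsg.quadFormPlus m K))) ≤ Fintype.card K ^ (2 * m ^ 2 - m + 4) := by
  obtain ⟨p, hchar⟩ := CharP.exists K
  obtain ⟨⟨f, hf0⟩, hp, hK⟩ := FiniteField.card K p
  have := Fact.mk hp
  change Fintype.card K = p ^ f at hK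
  have hf : 1 ≤ f := hf0
  have h1 := Cfsg.Agent.S0817.result (F := K) p f hf hK m hm
  have h2 := Cfsg.Agent.S0293.result (F := K) rfl m hm
  have h3 := prod_le (Fintype.card K) (m - 1)
  have h4 := (out_le (c := (if m = 4 then 3 else 1) * (if p = 2 then 2 else
    (if Even (m * (p ^ f - 1) / 2) then 8 else 4))) hp hf (by split_ifs <;> norm_num)).trans_eq
    (congrArg (fun x => x ^ 3) hK.symm)
  have hs : 1 ≤ Fintype.card K := Fintype.card_pos
  have hg : 1 ≤ Nat.gcd 4 (Fintype.card K ^ m - 1) := Nat.gcd_pos_of_pos_left _ (by norm_num)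
  have h5 : Nat.card (Cfsg.POmega K (Cfsg.quadFormPlus m K)) ≤ Fintype.card K ^ (2 * m ^ 2 - m) := by
    calc Nat.card (Cfsg.POmega K (Cfsg.quadFormPlus m K))
        ≤ Nat.gcd 4 (Fintype.card K ^ m - 1) * Nat.card (Cfsg.POmega K (Cfsg.quadFormPlus m K)) :=
          Nat.le_mul_of_pos_left _ hg
      _ ≤ Fintype.card K ^ (m * (m - 1)) * Fintype.card K ^ m * Fintype.card K ^ ((m - 1) * (m - 1 + 1)) := by
          rw [h2]
          exact Nat.mul_le_mul (Nat.mul_le_mul_left _ (Nat.sub_le _ _)) h3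
      _ = Fintype.card K ^ (2 * m ^ 2 - m) := by
          rw [← pow_add, ← pow_add]; congr 1
          obtain ⟨g, rfl⟩ : ∃ g, m = g + 1 := ⟨m - 1, by omega⟩
          have : 2 * (g + 1) ^ 2 = (2 * g ^ 2 + 3 * g + 1) + (g + 1) := by ring
          rw [this, Nat.add_sub_cancel, Nat.add_sub_cancel]
          ring
  calc Nat.card (MulAut (Cfsg.POmega K (Cfsg.quadFormPlus m K))) ≤ Fintype.card K ^ 3 * Fintype.card K ^ (2 * m ^ 2 - m) := by
        rw [h1]
        exact Nat.mul_le_mul h4 h5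
    _ = Fintype.card K ^ (2 * m ^ 2 - m + 3) := by rw [← pow_add]; congr 1; omega
    _ ≤ Fintype.card K ^ (2 * m ^ 2 - m + 4) := Nat.pow_le_pow_right hs (by omega)

theorem aut_minus_le {m : ℕ} (hm : 4 ≤ m) {a b : K}
    (hab : ∀ z₁ z₂ : K, z₁ ^ 2 + a * z₁ * z₂ + b * z₂ ^ 2 = 0 → z₁ = 0 ∧ z₂ = 0) :
    Nat.card (MulAut (Cfsg.POmega K (Cfsg.quadFormMinus (m - 1) K a b))) ≤ Fintype.card K ^ (2 * m ^ 2 - m + 4) := by
  obtain ⟨p, hchar⟩ := CharP.exists K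
  obtain ⟨⟨f, hf0⟩, hp, hK⟩ := FiniteField.card K p
  have := Fact.mk hp
  change Fintype.card K = p ^ f at hK
  have hf : 1 ≤ f := hf0
  have h1 := Cfsg.Agent.S0818.result (F := K) p f hf hK m hm a b hab
  have h2 := Cfsg.Agent.S0294.result (F := K) rfl m hm a b hab
  have h3 := prod_le (Fintype.card K) (m - 1)
  have h4 := (out_le (c := (if p = 2 then 2 else
    (if Even (m * (p ^ f - 1) / 2) then 4 else 8))) hp hf (by split_ifs <;> norm_num)).trans_eq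
    (congrArg (fun x => x ^ 3) hK.symm)
  have hs2 : 2 ≤ Fintype.card K := Fintype.one_lt_card
  have hg : 1 ≤ Nat.gcd 4 (Fintype.card K ^ m + 1) := Nat.gcd_pos_of_pos_left _ (by norm_num)
  have h6 : Fintype.card K ^ m + 1 ≤ Fintype.card K ^ (m + 1) := by
    have h7 : 1 ≤ Fintype.card K ^ m := Nat.one_le_pow _ _ (by omega)
    calc Fintype.card K ^ m + 1 ≤ Fintype.card K ^ m * 2 := by omega
      _ ≤ Fintype.card K ^ m * Fintype.card K := Nat.mul_le_mul_left _ hs2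
      _ = Fintype.card K ^ (m + 1) := (pow_succ _ _).symm
  have h5 : Nat.card (Cfsg.POmega K (Cfsg.quadFormMinus (m - 1) K a b)) ≤ Fintype.card K ^ (2 * m ^ 2 - m + 1) := by
    calc Nat.card (Cfsg.POmega K (Cfsg.quadFormMinus (m - 1) K a b))
        ≤ Nat.gcd 4 (Fintype.card K ^ m + 1) * Nat.card (Cfsg.POmega K (Cfsg.quadFormMinus (m - 1) K a b)) :=
          Nat.le_mul_of_pos_left _ hg
      _ ≤ Fintype.card K ^ (m * (m - 1)) * Fintype.card K ^ (m + 1) *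
            Fintype.card K ^ ((m - 1) * (m - 1 + 1)) := by
          rw [h2]
          exact Nat.mul_le_mul (Nat.mul_le_mul_left _ h6) h3
      _ = Fintype.card K ^ (2 * m ^ 2 - m + 1) := by
          rw [← pow_add, ← pow_add]; congr 1
          obtain ⟨g, rfl⟩ : ∃ g, m = g + 1 := ⟨m - 1, by omega⟩
          have : 2 * (g + 1) ^ 2 = (2 * g ^ 2 + 3 * g + 1) + (g + 1) := by ring
          rw [this, Nat.add_sub_cancel, Nat.add_sub_cancel]
          ring
  calc Nat.card (MulAut (Cfsg.POmega K (Cfsg.quadFormMinus (m - 1) K a b)))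
      ≤ Fintype.card K ^ 3 * Fintype.card K ^ (2 * m ^ 2 - m + 1) := by
        rw [h1]
        exact Nat.mul_le_mul h4 h5
    _ = Fintype.card K ^ (2 * m ^ 2 - m + 4) := by rw [← pow_add]; congr 1; omega

end aut

/-! ### powers -/

theorem two_pow_ge {m : ℕ} (hm : 5 ≤ m) : 2 * m ^ 2 - m + 8 ≤ 2 ^ (2 * m - 4) := by
  obtain ⟨g, rfl⟩ : ∃ g, m = g + 5 := ⟨m - 5, by omega⟩
  have h1 : 2 * (g + 5) ^ 2 - (g + 5) = 2 * g ^ 2 + 19 * g + 45 := by
    have : 2 * (g + 5) ^ 2 = (2 * g ^ 2 + 19 * g + 45) + (g + 5) := by ring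
    rw [this, Nat.add_sub_cancel]
  rw [h1, show 2 * (g + 5) - 4 = 2 * g + 6 by omega]
  induction g with
  | zero => norm_num
  | succ g ih =>
    have h2 := ih (by omega) (by
      have : 2 * (g + 5) ^ 2 = (2 * g ^ 2 + 19 * g + 45) + (g + 5) := by ring
      rw [this, Nat.add_sub_cancel])
    have h3 : 2 ^ (2 * (g + 1) + 6) = 4 * 2 ^ (2 * g + 6) := by
      rw [show 2 * (g + 1) + 6 = (2 * g + 6) + 2 by ring, pow_add]; ring
    rw [h3]
    nlinarith

theorem pow_ge {s m : ℕ} (hs : 3 ≤ s) (hm : 4 ≤ m) : 2 * m ^ 2 - m + 8 ≤ s ^ (2 * m - 4) := by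
  refine le_trans ?_ (Nat.pow_le_pow_left hs _)
  obtain ⟨g, rfl⟩ : ∃ g, m = g + 4 := ⟨m - 4, by omega⟩
  have h1 : 2 * (g + 4) ^ 2 - (g + 4) = 2 * g ^ 2 + 15 * g + 28 := by
    have : 2 * (g + 4) ^ 2 = (2 * g ^ 2 + 15 * g + 28) + (g + 4) := by ring
    rw [this, Nat.add_sub_cancel]
  rw [h1, show 2 * (g + 4) - 4 = 2 * g + 4 by omega]
  clear h1 hm
  induction g with
  | zero => norm_num
  | succ g ih =>
    have h3 : 3 ^ (2 * (g + 1) + 4) = 9 * 3 ^ (2 * g + 4) := by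
      rw [show 2 * (g + 1) + 4 = (2 * g + 4) + 2 by ring, pow_add]; ring
    rw [h3]
    nlinarith

theorem pow_ge_odd {s m : ℕ} (hs : 3 ≤ s) (hm : 4 ≤ m) : 2 * m ^ 2 + m + 8 ≤ s ^ (2 * m - 3) := by
  refine le_trans ?_ (Nat.pow_le_pow_left hs _)
  obtain ⟨g, rfl⟩ : ∃ g, m = g + 4 := ⟨m - 4, by omega⟩
  rw [show 2 * (g + 4) - 3 = 2 * g + 5 by omega]
  clear hm
  induction g with
  | zero => norm_num
  | succ g ih =>
    have h3 : 3 ^ (2 * (g + 1) + 5) = 9 * 3 ^ (2 * g + 5) := by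
      rw [show 2 * (g + 1) + 5 = (2 * g + 5) + 2 by ring, pow_add]; ring
    rw [h3]
    nlinarith

/-! ### the general kill -/

theorem kill {N n : ℕ} (hE : ∀ L, N ≤ 2 ^ L → L + 3 ≤ n → False) {s X t : ℕ} (hs : 2 ≤ s)
    (hA : N ≤ s ^ (X + 4)) (hX : X + 8 ≤ s ^ t) (hn : (s - 1) * s ^ t ≤ n) : False := by
  obtain ⟨u, rfl⟩ : ∃ u, s = u + 1 := ⟨s - 1, by omega⟩
  rw [Nat.add_sub_cancel] at hn
  have hu : 1 ≤ u := by omega
  have h1 : u + 1 ≤ 2 ^ u := Nat.lt_pow_self (by norm_num)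
  have h2 : N ≤ 2 ^ (u * (X + 4)) := by
    rw [pow_mul]
    exact hA.trans (Nat.pow_le_pow_left h1 _)
  refine hE _ h2 (le_trans ?_ (le_trans (Nat.mul_le_mul_left u hX) hn))
  rw [mul_add, mul_add]
  omega

end Cfsg.Agent.H376.EP
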