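import Cfsg.Agent.H376.EP.OmPR
import Cfsg.Agent.H376.EP.OmNum
import Cfsg.Agent.H528.EP.UB3
import Cfsg.Agent.S0295

/-!
# S3499, V-LIE-Omega: `CrossPOmega` (helper376)

`T = PΩ_N(s)`, the characteristic `r` of `s` is not the characteristic of `F`, dimension `n ≥ 13`.
The general case: `(s - 1) s ^ (N - 4) ≤ n` (long root Heisenberg group) against `|A| ≤ s ^ (N (N - 1) / 2 + 4)`.
Special cases `PΩ₇(3)`, `PΩ₈⁻(2)`, `PΩ₈⁺(2)`: helper528's form of UB2.
-/

set_option autoImplicit false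

namespace Cfsg.Agent.H376.EP

open Subgroup Cfsg.Agent.H419.EP Cfsg.Agent.H284 Cfsg.Agent.H912.Bd Cfsg.Agent.H59.EP Cfsg.Agent.H528.EP
open scoped MatrixGroups

variable {Q : Type} [Group Q] [Finite Q] {A : Subgroup Q} {Γ : Subgroup (MulAut Q)} {ι : Type} [Fintype ι]
    [DecidableEq ι] {F : Type} [Field F] [Fintype F] {S P : Subgroup (GL ι F)} {T : Type} [Group T]

theorem noab (b : Big A Γ S P) : ∀ K : Subgroup Q, K ≤ A → (∀ a ∈ A, ∀ k ∈ K, a * k * a⁻¹ ∈ K) →
    (∀ a ∈ K, ∀ b ∈ K, a * b = b * a) → K = ⊥ := by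
  intro K h1 h2 h3
  refine b.hasSoc.no_abelian b.core.simple (fun h => b.core.nonabelian ⟨⟨fun x y => h x y⟩⟩) h1 h2 h3

theorem card_dvd (b : Big A Γ S P) (e : socle P ≃* T) : Nat.card A ∣ Nat.card (MulAut T) := by
  obtain ⟨f, hf⟩ := (b.hasSoc' e).exists_hom
  exact Subgroup.card_dvd_of_injective f hf

theorem card_le (b : Big A Γ S P) (e : socle P ≃* T) (h0 : Nat.card (MulAut T) ≠ 0) :
    Nat.card A ≤ Nat.card (MulAut T) := Nat.le_of_dvd (Nat.pos_of_ne_zero h0) (card_dvd b e)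

theorem ord_ge (b : Big A Γ S P) {N s : ℕ} (hN : N ≤ Fintype.card ι) (hs : s ≤ Fintype.card F) (hs1 : 1 ≤ s) :
    s ^ (N * (N - 1) / 2) ≤ 8 * Nat.card Q := by
  refine le_trans ?_ b.ord
  refine le_trans (Nat.pow_le_pow_left hs _) (Nat.pow_le_pow_right (by omega) ?_)
  apply Nat.div_le_div_right
  exact Nat.mul_le_mul hN (by omega)

/-- UB2 against a lower bound `B ≤ 8 |Q|` -/
theorem kill_ub (hg : TwoGen.{0}) (b : Big A Γ S P) (e : socle P ≃* T) {N G B : ℕ} (hN : Nat.card (MulAut T) = N)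
    (hN0 : N ≠ 0) (hN60 : N < 60 ^ 60) (hG : galSum N ≤ G) (hB : B ≤ 8 * Nat.card Q) (hlt : 8 * ubQ N G < B) : False := by
  have h1 := EPT.card_le_gen b.simple b.ept hg (noab b) hN0 (hN ▸ card_dvd b e) hN60 hG
  omega

theorem three_le (h2 : (2 : F) ≠ 0) : 3 ≤ Fintype.card F := by
  have h1 : 1 < Fintype.card F := Fintype.one_lt_card
  by_contra hcon
  have h3 : Fintype.card F = 2 := by omega
  apply h2
  have h4 := FiniteField.cast_card_eq_zero F
  rw [h3] at h4
  exact_mod_cast h4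

/-! ### the three special groups -/

variable {K : Type} [Field K] [Fintype K]

theorem galSum_o73 : galSum 9170703360 ≤ 14000000000 := by
  have h := galSum_list [(2, 10), (3, 9), (5, 1), (7, 1), (13, 1)]
    (by intro x hx; fin_cases hx <;> norm_num) (by decide)
  have e : (List.map (fun x : ℕ × ℕ => x.1 ^ x.2) [(2, 10), (3, 9), (5, 1), (7, 1), (13, 1)]).prod = 9170703360 := by
    norm_num
  rw [e] at h
  rw [h.1]
  decide +kernel

theorem galSum_o8m : galSum 394813440 ≤ 40000000000000 := by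
  have h := galSum_list [(2, 13), (3, 4), (5, 1), (7, 1), (17, 1)]
    (by intro x hx; fin_cases hx <;> norm_num) (by decide)
  have e : (List.map (fun x : ℕ × ℕ => x.1 ^ x.2) [(2, 13), (3, 4), (5, 1), (7, 1), (17, 1)]).prod = 394813440 := by
    norm_num
  rw [e] at h
  rw [h.1]
  decide +kernel

theorem galSum_o8p : galSum 1045094400 ≤ 40000000000000 := by
  have h := galSum_list [(2, 13), (3, 6), (5, 2), (7, 1)]
    (by intro x hx; fin_cases hx <;> norm_num) (by decide)
  have e : (List.map (fun x : ℕ × ℕ => x.1 ^ x.2) [(2, 13), (3, 6), (5, 2), (7, 1)]).prod = 1045094400 := by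
    norm_num
  rw [e] at h
  rw [h.1]
  decide +kernel

theorem not_o73 (hg : TwoGen.{0}) (b : Big A Γ S P) (hK : Fintype.card K = 3) (h3 : ((3 : ℕ) : F) ≠ 0)
    (e : socle P ≃* Cfsg.POmega K (Cfsg.quadFormOdd 3 K)) : False := by
  have hodd : Odd (Fintype.card K) := by rw [hK]; decide
  have hs : IsSimpleGroup (Cfsg.POmega K (Cfsg.quadFormOdd 3 K)) := Cfsg.Agent.S0295.result hodd 3 le_rfl
  have hn : 26 ≤ Fintype.card ι := ls_le (Cfsg.Agent.H95.LSx.ls_o73 hK) h3 b.core.perfect e hs.toNontrivial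
  have hp := Fact.mk Nat.prime_three
  have h1 := Cfsg.Agent.S0816.result (F := K) 3 1 le_rfl (by rw [hK]; norm_num) (by decide) 3 le_rfl
  have h2 := Cfsg.Agent.S0292.result (F := K) hK (by decide) 3 le_rfl
  have h4 : Nat.card (MulAut (Cfsg.POmega K (Cfsg.quadFormOdd 3 K))) = 9170703360 := by
    rw [h1, mul_one, h2]
    decide +kernel
  refine kill_ub hg b e h4 (by norm_num) (by norm_num) galSum_o73 (ord_ge b (N := 26) (s := 2) hn b.two_le (by norm_num)) ?_
  decide +kernel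

theorem not_o8m (hg : TwoGen.{0}) (b : Big A Γ S P) (hK : Fintype.card K = 2) (h2 : ((2 : ℕ) : F) ≠ 0) {x y : K}
    (hxy : ∀ z₁ z₂ : K, z₁ ^ 2 + x * z₁ * z₂ + y * z₂ ^ 2 = 0 → z₁ = 0 ∧ z₂ = 0)
    (e : socle P ≃* Cfsg.POmega K (Cfsg.quadFormMinus (4 - 1) K x y)) : False := by
  have hPR := pr_of_noR (noR_minus Nat.prime_two (f := 1) (by rw [hK]; norm_num) one_ne_zero (m := 4) le_rfl hxy)
    b.core.perfect e
  have hn := Cfsg.Agent.H203.OrthHeis.bd_pomega_minus_heis (F := F) Nat.prime_two h2 (f := 1)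
    (by rw [hK]; norm_num) (m := 4) le_rfl hxy _ hPR
  rw [hK] at hn
  have hp := Fact.mk Nat.prime_two
  have h1 := Cfsg.Agent.S0818.result (F := K) 2 1 le_rfl (by rw [hK]; norm_num) 4 le_rfl x y hxy
  have h3 := Cfsg.Agent.S0294.result (F := K) hK 4 le_rfl x y hxy
  have hgcd : Nat.gcd 4 (2 ^ 4 + 1) = 1 := by decide
  rw [hgcd, one_mul] at h3
  have h4 : Nat.card (MulAut (Cfsg.POmega K (Cfsg.quadFormMinus (4 - 1) K x y))) = 394813440 := by
    rw [h1, h3]
    decide +kernel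
  refine kill_ub hg b e h4 (by norm_num) (by norm_num) galSum_o8m (ord_ge b (N := 16) (s := 3) (by simpa using hn)
    (three_le (by exact_mod_cast h2)) (by norm_num)) ?_
  decide +kernel

theorem not_o8p (hg : TwoGen.{0}) (b : Big A Γ S P) (hK : Fintype.card K = 2) (h2 : ((2 : ℕ) : F) ≠ 0)
    (e : socle P ≃* Cfsg.POmega K (Cfsg.quadFormPlus 4 K)) : False := by
  have hp := Fact.mk Nat.prime_two
  have h1 := Cfsg.Agent.S0817.result (F := K) 2 1 le_rfl (by rw [hK]; norm_num) 4 le_rfl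
  have h3 := Cfsg.Agent.S0293.result (F := K) hK 4 le_rfl
  have hgcd : Nat.gcd 4 (2 ^ 4 - 1) = 1 := by decide
  rw [hgcd, one_mul] at h3
  have h4 : Nat.card (MulAut (Cfsg.POmega K (Cfsg.quadFormPlus 4 K))) = 1045094400 := by
    rw [h1, h3]
    decide +kernel
  have hF := three_le (F := F) (by exact_mod_cast h2)
  by_cases h14 : 14 ≤ Fintype.card ι
  · refine kill_ub hg b e h4 (by norm_num) (by norm_num) galSum_o8p (ord_ge b (N := 14) (s := 3) h14 hF (by norm_num)) ?_
    decide +kernel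
  by_cases h5 : 4 ≤ Fintype.card F
  · refine kill_ub hg b e h4 (by norm_num) (by norm_num) galSum_o8p (ord_ge b (N := 13) (s := 4) b.thirteen h5 (by norm_num)) ?_
    decide +kernel
  have hn : Fintype.card ι = 13 := by have := b.thirteen; omega
  have hPR := pr_of_linear (r := 2) e (no_scalar hn (by omega) b.core.perfect)
  have hb := Cfsg.Agent.H203.OrthHeis.bd_pomega_plus_heis (F := F) Nat.prime_two h2 (f := 1)
    (by rw [hK]; norm_num) (m := 4) le_rfl _ hPR
  rw [hK, hn] at hb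
  exact absurd hb (by norm_num)

/-! ### assembly -/

theorem two_ne (hodd : Odd (Fintype.card K)) : (2 : K) ≠ 0 := by
  intro h
  have h4 := FiniteField.cast_card_eq_zero K
  obtain ⟨k, hk⟩ := hodd
  rw [hk, Nat.cast_add, Nat.cast_mul, Nat.cast_ofNat, h, zero_mul, zero_add, Nat.cast_one] at h4
  exact one_ne_zero h4

omit [Fintype F] [Fintype K] in
theorem cast_ne {p : ℕ} (hp : p.Prime) [CharP K p] (h : ringChar F ≠ ringChar K) : ((p : ℕ) : F) ≠ 0 := by
  intro h0
  have h1 : ringChar F ∣ p := (ringChar.spec F p).1 h0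
  rcases (Nat.dvd_prime hp).1 h1 with h2 | h2
  · have h3 : ((1 : ℕ) : F) = 0 := (ringChar.spec F 1).2 (by rw [h2])
    rw [Nat.cast_one] at h3
    exact one_ne_zero h3
  · exact h (by rw [h2, ringChar.eq K p])

/-- **V-LIE-Omega**: `CrossPOmega` from the 2-generation of the simple groups and helper904's criterion E3. -/
theorem crossPOmega_of (hg : TwoGen.{0})
    (hE : ∀ {Q : Type} [Group Q] [Finite Q] {A : Subgroup Q} {Γ : Subgroup (MulAut Q)} {ι : Type}
      [Fintype ι] [DecidableEq ι] {F : Type} [Field F] [Fintype F] {S P : Subgroup (GL ι F)}, Big A Γ S P →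
      ∀ L : ℕ, Nat.card A ≤ 2 ^ L → L + 3 ≤ Fintype.card ι → False) : CrossPOmega := by
  intro Q _ _ A Γ ι _ _ F _ _ S P b K _ _ d hch hcases
  obtain ⟨p, hchar⟩ := CharP.exists K
  obtain ⟨⟨f, hf0⟩, hp, hK⟩ := FiniteField.card K p
  change Fintype.card K = p ^ f at hK
  have hf : f ≠ 0 := by omega
  have hpF := cast_ne (K := K) (F := F) hp hch
  have hs2 : 2 ≤ Fintype.card K := Fintype.one_lt_card
  have hchar2 : Fintype.card K = 2 → p = 2 := by
    intro h2
    rw [hK] at h2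
    have h3 : p ∣ 2 := by rw [← h2]; exact dvd_pow_self p hf
    exact (Nat.prime_dvd_prime_iff_eq hp Nat.prime_two).1 h3
  rcases hcases with ⟨hd, hodd, ⟨e⟩⟩ | ⟨hd, ⟨e⟩⟩ | ⟨x, y, hd, hxy, ⟨e⟩⟩
  · have hs3 : 3 ≤ Fintype.card K := by
      rcases Nat.eq_or_lt_of_le hs2 with h | h
      · rw [← h] at hodd
        exact absurd hodd (by decide)
      · exact h
    by_cases hexc : d = 3 ∧ Fintype.card K = 3
    · obtain ⟨rfl, h3⟩ := hexc
      have hp3 : p = 3 := by
        rw [hK] at h3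
        have h4 : p ∣ 3 := by rw [← h3]; exact dvd_pow_self p hf
        exact (Nat.prime_dvd_prime_iff_eq hp Nat.prime_three).1 h4
      subst hp3
      exact not_o73 hg b h3 hpF e
    have hPR := pr_of_noR (noR_odd hp hK hf hodd hd hexc) b.core.perfect e
    have hn := Cfsg.Agent.H203.OrthHeis.bd_pomega_odd_heis (F := F) hp hpF hK (two_ne hodd) hd _ hPR
    refine kill (hE b) hs2 ((b.hasSoc' e).card_le.trans (aut_odd_le hodd hd)) ?_ hn
    rcases Nat.eq_or_lt_of_le hd with h | h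
    · subst h
      have h5 : 4 ≤ Fintype.card K := by
        rcases Nat.eq_or_lt_of_le hs3 with h6 | h6
        · exact absurd ⟨rfl, h6.symm⟩ hexc
        · exact h6
      calc 2 * 3 ^ 2 + 3 + 8 ≤ 4 ^ (2 * 3 - 3) := by norm_num
        _ ≤ Fintype.card K ^ (2 * 3 - 3) := Nat.pow_le_pow_left h5 _
    · exact pow_ge_odd hs3 h
  · by_cases hexc : d = 4 ∧ Fintype.card K = 2
    · obtain ⟨rfl, h2⟩ := hexc
      have hp2 := hchar2 h2
      subst hp2
      exact not_o8p hg b h2 hpF e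
    have hPR := pr_of_noR (noR_plus hp hK hf hd hexc) b.core.perfect e
    have hn := Cfsg.Agent.H203.OrthHeis.bd_pomega_plus_heis (F := F) hp hpF hK hd _ hPR
    refine kill (hE b) hs2 ((b.hasSoc' e).card_le.trans (aut_plus_le hd)) ?_ hn
    rcases Nat.eq_or_lt_of_le hs2 with h | h
    · rw [← h]
      refine two_pow_ge ?_
      rcases Nat.eq_or_lt_of_le hd with h6 | h6
      · exact absurd ⟨h6.symm, h.symm⟩ hexc
      · exact h6
    · exact pow_ge h hd
  · by_cases hexc : d = 4 ∧ Fintype.card K = 2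
    · obtain ⟨rfl, h2⟩ := hexc
      have hp2 := hchar2 h2
      subst hp2
      exact not_o8m hg b h2 hpF hxy e
    have hPR := pr_of_noR (noR_minus hp hK hf hd hxy) b.core.perfect e
    have hn := Cfsg.Agent.H203.OrthHeis.bd_pomega_minus_heis (F := F) hp hpF hK hd hxy _ hPR
    refine kill (hE b) hs2 ((b.hasSoc' e).card_le.trans (aut_minus_le hd hxy)) ?_ hn
    rcases Nat.eq_or_lt_of_le hs2 with h | h
    · rw [← h]
      refine two_pow_ge ?_
      rcases Nat.eq_or_lt_of_le hd with h6 | h6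
      · exact absurd ⟨h6.symm, h.symm⟩ hexc
      · exact h6
    · exact pow_ge h hd

end Cfsg.Agent.H376.EP
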