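import Cfsg.Agent.H419.EP.Big
import Cfsg.Agent.H203.OrthHeis
import Cfsg.Agent.H912.MultChar
import Cfsg.Agent.H95.LSx.O73
import Cfsg.Agent.S2094
import Cfsg.Agent.S2096
import Cfsg.Agent.S2097
import Cfsg.Agent.S2099

/-!
# S3499, V-LIE-Omega: projective representations from a residual core, lower bounds for the dimension (helper376)
-/

set_option autoImplicit false

namespace Cfsg.Agent.H376.EP

open Subgroup Cfsg.Agent.H419.EP Cfsg.Agent.H912.Bd
open scoped MatrixGroups

section core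

variable {ι : Type} [Fintype ι] [DecidableEq ι] {F : Type} [Field F] {P : Subgroup (GL ι F)}
  {T : Type} [Group T]

/-- renumbering of the basis -/
noncomputable def ren (ι : Type) [Fintype ι] [DecidableEq ι] (F : Type) [Field F] :
    GL ι F ≃* GL (Fin (Fintype.card ι)) F :=
  Units.mapEquiv (Matrix.reindexAlgEquiv F F (Fintype.equivFin ι)).toMulEquiv

/-- the map `P → T` -/
noncomputable def pro (e : socle P ≃* T) : P →* T :=
  e.toMonoidHom.comp (QuotientGroup.mk' ((Cfsg.Geo.scalars ι F).subgroupOf P))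

theorem pro_surj (e : socle P ≃* T) : Function.Surjective (pro e) :=
  e.surjective.comp (QuotientGroup.mk'_surjective _)

theorem pro_ker (e : socle P ≃* T) : (pro e).ker = (Cfsg.Geo.scalars ι F).subgroupOf P := by
  ext x
  rw [MonoidHom.mem_ker]
  change e _ = 1 ↔ _
  rw [map_eq_one_iff _ e.injective, QuotientGroup.mk'_apply, QuotientGroup.eq_one_iff]

theorem pro_central (e : socle P ≃* T) : (pro e).ker ≤ Subgroup.center P := by
  rw [pro_ker]
  intro x hx
  rw [Subgroup.mem_center_iff]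
  intro y
  obtain ⟨c, hc⟩ : ((x : P) : GL ι F) ∈ Cfsg.Geo.scalars ι F := Subgroup.mem_subgroupOf.1 hx
  apply Subtype.ext
  apply Units.ext
  change ((y : GL ι F) : Matrix ι ι F) * ((x : GL ι F) : Matrix ι ι F) =
    ((x : GL ι F) : Matrix ι ι F) * ((y : GL ι F) : Matrix ι ι F)
  rw [← hc]
  exact ((Matrix.scalar_commute (c : F) (fun _ => Commute.all _ _) _).eq).symm

theorem comm_top (hP : ⁅P, P⁆ = P) : commutator P = ⊤ := by
  apply Subgroup.map_injective P.subtype_injective
  rw [_root_.commutator_def, Subgroup.map_commutator, ← MonoidHom.range_eq_map, Subgroup.range_subtype, hP]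

theorem pr_of_coprime {r : ℕ} (e : socle P ≃* T) (h : (Nat.card (pro e).ker).Coprime r) :
    PR F (Fintype.card ι) r T := by
  refine ⟨P, inferInstance, pro e, (ren ι F).toMonoidHom.comp P.subtype, pro_surj e, fun x hx y => ?_, h, ?_⟩
  · exact ((Subgroup.mem_center_iff.1 (pro_central e (MonoidHom.mem_ker.2 hx))) y).symm
  · intro x hx
    rw [MonoidHom.mem_ker] at hx
    have h1 : (x : GL ι F) = 1 := (ren ι F).injective (by rw [map_one]; exact hx)
    have h2 : x = 1 := Subtype.ext h1
    rw [h2]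
    exact Subgroup.one_mem _

theorem pr_of_noR {r : ℕ} (h : NoR.{0} r T) (hP : ⁅P, P⁆ = P) (e : socle P ≃* T) : PR F (Fintype.card ι) r T :=
  pr_of_coprime e (h P (comm_top hP) (pro e) (pro_surj e) (pro_central e))

/-- no scalars in `P` -/
theorem pr_of_linear {r : ℕ} (e : socle P ≃* T) (h : ∀ x ∈ P, x ∈ Cfsg.Geo.scalars ι F → x = 1) :
    PR F (Fintype.card ι) r T := by
  refine pr_of_coprime e ?_
  have h1 : (pro e).ker = ⊥ := by
    rw [pro_ker, Subgroup.eq_bot_iff_forall]
    intro x hx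
    exact Subtype.ext (h x x.2 (Subgroup.mem_subgroupOf.1 hx))
  rw [h1, Subgroup.card_bot]
  exact Nat.coprime_one_left r

theorem ls_le [Fintype F] {r d : ℕ} (h : Cfsg.Agent.H203.LS.LS.{0, 0, 0} r d T) (hrF : (r : F) ≠ 0) (hP : ⁅P, P⁆ = P)
    (e : socle P ≃* T) (hT : Nontrivial T) : d ≤ Fintype.card ι := by
  have : Finite (GL ι F) := inferInstance
  have : Finite P := inferInstance
  refine h P (pro e) (pro_surj e) (pro_central e) (comm_top hP) F hrF _
    ((ren ι F).toMonoidHom.comp P.subtype) fun h1 => ?_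
  obtain ⟨t, ht⟩ := exists_ne (1 : T)
  obtain ⟨x, hx⟩ := pro_surj e t
  have h2 := DFunLike.congr_fun h1 x
  have h3 : (x : GL ι F) = 1 := (ren ι F).injective (by rw [map_one]; exact h2)
  have h4 : x = 1 := Subtype.ext h3
  rw [h4, map_one] at hx
  exact ht hx.symm

/-- a perfect group contains no scalar `≠ 1` in dimension `13` over `F₃` -/
theorem no_scalar [Fintype F] (hn : Fintype.card ι = 13) (hF : Fintype.card F = 3) (hP : ⁅P, P⁆ = P) :
    ∀ x ∈ P, x ∈ Cfsg.Geo.scalars ι F → x = 1 := by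
  intro x hx hs
  have hdet : Matrix.GeneralLinearGroup.det x = 1 := by
    have h1 : P ≤ (Matrix.GeneralLinearGroup.det (n := ι) (R := F)).ker := by
      rw [← hP]
      rw [Subgroup.commutator_le]
      intro a _ b _
      rw [MonoidHom.mem_ker, map_commutatorElement]
      exact commutatorElement_eq_one_iff_mul_comm.2 (mul_comm _ _)
    exact h1 hx
  obtain ⟨c, rfl⟩ := hs
  have h2 : (c : F) ^ 13 = 1 := by
    have h3 := congrArg Units.val hdet
    rw [Matrix.GeneralLinearGroup.val_det_apply] at h3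
    change Matrix.det (Matrix.scalar ι (c : F)) = 1 at h3
    rwa [Matrix.scalar_apply, Matrix.det_diagonal, Finset.prod_const, Finset.card_univ, hn] at h3
  have h4 : (c : F) ^ 2 = 1 := by
    have := FiniteField.pow_card_sub_one_eq_one (c : F) c.ne_zero
    rwa [hF] at this
  have h5 : (c : F) = 1 := by
    have h6 : (c : F) ^ 13 = ((c : F) ^ 2) ^ 6 * (c : F) := by ring
    rw [h2, h4, one_pow, one_mul] at h6
    exact h6.symm
  have h7 : c = 1 := Units.ext h5
  rw [h7, map_one]

end core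


/-! ### lower bounds for the dimension -/

section deg

variable {F K : Type} [Field F] [Field K] [Fintype K] {r f : ℕ}

theorem noR_odd (hr : r.Prime) (hK : Fintype.card K = r ^ f) (hf : f ≠ 0) (hodd : Odd (Fintype.card K)) {m : ℕ}
    (hm : 3 ≤ m) (hexc : ¬ (m = 3 ∧ Fintype.card K = 3)) :
    NoR.{0} r (Cfsg.POmega K (Cfsg.quadFormOdd m K)) := by
  refine NoR.of_cyclic (Cfsg.Agent.S2094.result (F := K) rfl hodd m hm hexc) ?_
  rw [Nat.coprime_two_left]
  exact Odd.of_dvd_nat hodd (by rw [hK]; exact dvd_pow_self r hf)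

theorem noR_plus (hr : r.Prime) (hK : Fintype.card K = r ^ f) (hf : f ≠ 0) {m : ℕ}
    (hm : 4 ≤ m) (hexc : ¬ (m = 4 ∧ Fintype.card K = 2)) :
    NoR.{0} r (Cfsg.POmega K (Cfsg.quadFormPlus m K)) := by
  have hd : r ∣ Fintype.card K := by rw [hK]; exact dvd_pow_self r hf
  have hdm : r ∣ Fintype.card K ^ m := dvd_pow hd (by omega)
  have hpos : 0 < Fintype.card K ^ m := pow_pos Fintype.card_pos _
  rcases Nat.even_or_odd m with hev | hod
  · refine NoR.of_mult (Cfsg.Agent.S2097.result (F := K) rfl m hm hev hexc) ?_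
    rw [Nat.card_congr Multiplicative.toAdd, Nat.card_prod, Nat.card_zmod]
    have h1 : (Nat.gcd 2 (Fintype.card K ^ m - 1)).Coprime r := coprime_gcd_sub hr hpos hdm
    exact Nat.Coprime.mul_left h1 h1
  · have h5 : 5 ≤ m := by
      by_contra hcon
      have h4 : m = 4 := by omega
      rw [h4] at hod
      exact absurd hod (by decide)
    exact NoR.of_cyclic (Cfsg.Agent.S2096.result (F := K) rfl m h5 hod) (coprime_gcd_sub hr hpos hdm)

theorem noR_minus (hr : r.Prime) (hK : Fintype.card K = r ^ f) (hf : f ≠ 0) {m : ℕ}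
    (hm : 4 ≤ m) {a b : K} (hab : ∀ z₁ z₂ : K, z₁ ^ 2 + a * z₁ * z₂ + b * z₂ ^ 2 = 0 → z₁ = 0 ∧ z₂ = 0) :
    NoR.{0} r (Cfsg.POmega K (Cfsg.quadFormMinus (m - 1) K a b)) := by
  have hd : r ∣ Fintype.card K := by rw [hK]; exact dvd_pow_self r hf
  have hdm : r ∣ Fintype.card K ^ m := dvd_pow hd (by omega)
  exact NoR.of_cyclic (Cfsg.Agent.S2099.result (F := K) rfl m hm a b hab) (coprime_gcd_add hr hdm)

end deg

end Cfsg.Agent.H376.EP
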